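import Cfsg.Agent.H733.Tor.Main
import Cfsg.Agent.H330.Gow

/-!
# S3235: the groups of Lie type satisfy `LieHyp` (helper733)

Local characteristic and Gow's theorem.
-/

set_option autoImplicit false

namespace Cfsg.Agent.H733.Tor

open Cfsg

/-- **The facts used about a simple group of Lie type in characteristic `r`.** -/
theorem lieHyp {r : ℕ} (hr : r.Prime) {K : Type*} [Group K] [Finite K] [IsSimpleGroup K] (hK : IsLieTypeChar r K) :
    LieHyp r K where
  loc := by
    have : Fact r.Prime := ⟨hr⟩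
    exact Cfsg.Agent.H330.Gow.locChar_of_lie hK
  nonab := by
    have : Fact r.Prime := ⟨hr⟩
    have h := Cfsg.Agent.H400.LieLocal.center_eq_bot
      (Cfsg.Agent.H330.Gow.hasSplit_of_ab (Cfsg.Agent.H716.SplitAb.hasSplitAb_of_lie hr hK))
    obtain ⟨a, b, hab⟩ := Cfsg.Agent.H400.LieLocal.exists_noncomm h
    exact fun h => hab (h a b)
  gow := fun hx hz hzr => Cfsg.Agent.H330.Gow.gow hr hK hx hx hz hzr

end Cfsg.Agent.H733.Tor
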