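import Cfsg.Agent.H733.Tor.RowsChev
import Cfsg.Agent.H559.ExcJoint
import Cfsg.Agent.H493.PGD4T
import Cfsg.Agent.H129.CycT2
import Cfsg.Agent.S1066
import Cfsg.Agent.S1067

/-!
# S3235: `²E₆(q)`, `³D₄(q)` in cross characteristic (helper733)
-/

set_option autoImplicit false

namespace Cfsg.Agent.H733.Tor

open Subgroup Matrix Module Cfsg Cfsg.Lie Cfsg.Lie.ChevalleyDatum
open Cfsg.Agent.H103.Tor

/-! ### an element of order 21 in `³D₄(2)` -/

section Joint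

open CoxeterSystem Cfsg.Agent.ChevalleyStructure Cfsg.Agent.ChevalleyStructure.CoxeterGeom
  Cfsg.Agent.ChevalleyStructure.CoxeterGeomTypes
open Cfsg.Agent.Tits.Roots Cfsg.Agent.Nodes Cfsg.Agent.Nodes.Reps Cfsg.Agent.Nodes.RGDChev
  Cfsg.Agent.H129.TorusUntw Cfsg.Agent.BpExc.TowChev Cfsg.Agent.BpExc.Tow
open Cfsg.Agent.H129 Cfsg.Agent.H129.WData
open Cfsg.Agent.H493 Cfsg.Agent.H493.PGTorus Cfsg.Agent.H493.PGD4T Cfsg.Agent.H129.TriD4 Cfsg.Agent.H559.ExcJoint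

/-- the functional with coefficients `c` -/
def linF {l : ℕ} (c : Fin l → ℤ) : (Fin l → ℤ) →+ ℤ where
  toFun x := ∑ m, x m * c m
  map_zero' := Finset.sum_eq_zero fun m _ => by rw [Pi.zero_apply, zero_mul]
  map_add' x y := by
    rw [← Finset.sum_add_distrib]
    exact Finset.sum_congr rfl fun m _ => by rw [Pi.add_apply, add_mul]

theorem linF_apply {l : ℕ} (c x : Fin l → ℤ) : linF c x = ∑ m, x m * c m := rfl

theorem linF_theta {l : ℕ} {θ : (Fin l → ℤ) ≃+ (Fin l → ℤ)} {Th : Fin l → Fin l → ℤ}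
    (hθ : ∀ j, θ (sr j) = Th j) {c : Fin l → ℤ} {q n : ℤ} (h : ∀ j, n ∣ ∑ m, Th j m * c m - q * c j) (x : Fin l → ℤ) :
    n ∣ linF c (θ x) - q * linF c x := by
  have h3 : θ x = ∑ j, x j • Th j := by
    conv_lhs => rw [H129.TorusChar.IsMC.eq_sum_sr x]
    rw [map_sum]
    exact Finset.sum_congr rfl fun j _ => by rw [map_zsmul, hθ]
  have h4 : linF c (θ x) - q * linF c x = ∑ j, x j * (∑ m, Th j m * c m - q * c j) := by
    rw [h3, map_sum, linF_apply, Finset.mul_sum, ← Finset.sum_sub_distrib]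
    refine Finset.sum_congr rfl fun j _ => ?_
    rw [map_zsmul, linF_apply, smul_eq_mul]
    ring
  rw [h4]
  exact Finset.dvd_sum fun j _ => Dvd.dvd.mul_left (h j) _

/-- the word -/
def T21 : List (Fin 4 × Mat 4) := [
  (1, ![![1, 0, 0, 0], ![-1, -1, -1, -1], ![0, 0, 1, 0], ![0, 0, 0, 1]]),
  (0, ![![1, 1, 0, 0], ![-1, -2, -1, -1], ![0, 1, 1, 0], ![0, 1, 0, 1]]),
  (2, ![![0, 1, 0, 0], ![-1, -2, -1, -1], ![1, 1, 1, 0], ![1, 1, 0, 1]]),
  (3, ![![0, 1, 1, 0], ![-1, -2, -1, -1], ![1, 1, 0, 0], ![1, 1, 1, 1]]),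
  (1, ![![0, 1, 1, 1], ![-1, -2, -1, -1], ![1, 1, 0, 1], ![1, 1, 1, 0]]),
  (3, ![![0, 1, 1, 1], ![-1, -1, -1, -1], ![1, 1, 0, 1], ![1, 1, 1, 0]]),
  (2, ![![0, 1, 1, 0], ![-1, -1, -1, 0], ![1, 1, 0, 0], ![1, 1, 1, 1]]),
  (0, ![![0, 1, 0, 0], ![-1, -1, 0, 0], ![1, 1, 1, 0], ![1, 1, 0, 1]]),
  (1, ![![1, 1, 0, 0], ![0, -1, 0, 0], ![0, 1, 1, 0], ![0, 1, 0, 1]])]

theorem chain21 : ChainOK PGD4T.Am T21 := by decide +kernel

/-- the matrix -/
def Th21 : Mat 4 := ![![0, 0, 1, 0], ![-1, -1, -1, -1], ![0, 0, 0, 1], ![1, 0, 0, 0]]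

theorem hTh21 : ∀ j, hd T21 (pi j) = Th21 j := by decide +kernel

/-- the coefficients -/
def c21 : Fin 4 → ℤ := ![3, 7, 6, 12]

theorem dvd21 : ∀ j, (21 : ℤ) ∣ ∑ m, Th21 j m * c21 m - 2 * c21 j := by decide +kernel

theorem unit21 : linF c21 ![-2, 1, 0, 0] = 1 := by decide +kernel

theorem exists_21 {F : Type*} [Field F] [Fintype F] (hF : Fintype.card F = 2 ^ 3) :
    ∃ x : ↥(twistedD4 F 2), ∀ r ∈ ({3, 7} : Finset ℕ), r ∣ orderOf x := by
  have := PGD4T.finW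
  have hq : IsPrimePow 2 := Nat.prime_two.isPrimePow
  obtain ⟨p, e, hpF, hpk, he, hqe, hk⟩ := PGD4T.setup hq hF
  have hp2 : p = 2 := by
    have h1 : p ∣ 2 := by rw [hqe]; exact dvd_pow_self p he.ne'
    exact (Nat.prime_dvd_prime_iff_eq hpF.out Nat.prime_two).1 h1
  have hqe' : ((p ^ e : ℕ) : ℤ) = 2 := by rw [← hqe]; rfl
  have h37 : ∀ r ∈ ({3, 7} : Finset ℕ), r.Prime ∧ (r : ℤ) ∣ 21 ∧ 2 < r := by
    intro r hr
    rw [Finset.mem_insert, Finset.mem_singleton] at hr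
    rcases hr with rfl | rfl
    · exact ⟨by norm_num, by norm_num, by norm_num⟩
    · exact ⟨by norm_num, by norm_num, by norm_num⟩
  refine joint_of_fun RGDTwD4.hp coxeterD4.toCoxeterSystem hk he isFrob_tau (fr_tau _)
    TorusChar.invC_D4 (by norm_num) (d := 1)
    (fun y hy => by rw [pow_one]; exact tau_range (algebraMap F (AlgebraicClosure F)) hqe hq hF hy)
    (w := coxeterD4.toCoxeterSystem.wordProd (T21.map Prod.fst)) (L := linF c21) (x₀ := ![-2, 1, 0, 0])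
    (fun r hr => ⟨(h37 r hr).1, fun h => ?_, fun h => ?_⟩) (fun r hr x => ?_) unit21
  · exact (h37 r hr).1.one_lt.ne' (Nat.dvd_one.1 h)
  · have := (h37 r hr).2.2
    omega
  · refine (h37 r hr).2.1.trans ?_
    rw [hqe']
    exact linF_theta (Th := Th21) (fun j => PGD4T.lin coxeterD4.toCoxeterSystem chain21 hTh21 j) dvd21 x

end Joint

variable {p r : ℕ} {K : Type*} [Group K] [Finite K]

/-- the characteristic divides `q` if the field has `q ^ n` elements -/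
theorem char_dvd_q {F : Type*} [Field F] [Fintype F] {r : ℕ} [CharP F r] {q n : ℕ} (h : Fintype.card F = q ^ n) :
    r.Prime ∧ r ∣ q := by
  obtain ⟨hr, h1⟩ := char_dvd_card F r
  rw [h] at h1
  exact ⟨hr, hr.dvd_of_dvd_pow h1⟩

/-- a cyclic subgroup -/
theorem exists_of_cyclic {K' : Type*} [Group K'] {T : Subgroup K'} (hT : IsCyclic T) {m g : ℕ}
    (h : m ∣ g * Nat.card T) : ∃ x : K', m ∣ orderOf x * g := by
  obtain ⟨x, hx⟩ := hT.exists_generator
  refine ⟨(x : K'), ?_⟩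
  rw [Subgroup.orderOf_coe, orderOf_eq_card_of_forall_mem_zpowers hx, mul_comm]
  exact h

/-- `³D₄(q)` -/
theorem no_3D4 (hp : p.Prime) (hp5 : 5 ≤ p) (F : Type*) [Field F] [Fintype F] [CharP F r] {q : ℕ} (hq : IsPrimePow q)
    (hF : Fintype.card F = q ^ 3) (e : K ≃* ↥(twistedD4 F q)) (h : Reg p r 28 K) : False := by
  obtain ⟨hr, hrq⟩ := char_dvd_q (r := r) hF
  have hq2 : 2 ≤ q := hq.two_le
  rcases Nat.lt_or_ge q 3 with hq3 | hq3
  · have hq' : q = 2 := by omega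
    subst hq'
    have hr2 : r = 2 := (Nat.prime_dvd_prime_iff_eq hr Nat.prime_two).1 hrq
    have hc := Cfsg.Agent.S1067.result hq hF
    rw [← Nat.card_congr e.toEquiv] at hc
    have hp13 : p = 13 := by
      refine h.eq_of_chkx hp hp5 hr (M := 57) (x := 13) (by norm_num) (by norm_num) hc (L := [13, 7]) ?_
        (by decide +kernel)
      intro s hs
      simp only [List.mem_cons, List.not_mem_nil, or_false] at hs
      subst hr2
      rcases hs with rfl | rfl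
      · exact ⟨by norm_num, by norm_num, by norm_num, by norm_num⟩
      · exact ⟨by norm_num, by norm_num, by norm_num, by norm_num⟩
    obtain ⟨x, hx⟩ := exists_21 hF
    have hx21 : 21 ∣ orderOf (e.symm x) := by
      rw [MulEquiv.orderOf_eq]
      exact (Nat.Coprime.mul_dvd_of_dvd_of_dvd (by norm_num) (hx 3 (by simp)) (hx 7 (by simp)) : 3 * 7 ∣ _)
    obtain ⟨z, hz⟩ := exists_order_of_dvd hx21
    subst hr2 hp13
    have h1 := h.orderOf_cases (z := z) (by rw [hz]; norm_num)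
    rw [hz] at h1
    rcases h1 with h1 | ⟨m, hm, h1, h2⟩
    · norm_num at h1
    · have hm1 : m = 1 := by
        by_contra hc
        have : 13 ^ 2 ≤ 13 ^ m := Nat.pow_le_pow_right (by norm_num) (by omega)
        omega
      subst hm1
      norm_num at h2
  · obtain ⟨t, ht⟩ : ∃ t, q = 3 + t := ⟨q - 3, by omega⟩
    have hexp : 1 - (q : ℤ) ^ 2 + (q : ℤ) ^ 4 =
        (73 : ℕ) + (t : ℤ) * (102 + (t : ℤ) * (53 + (t : ℤ) * (12 + (t : ℤ) * 1))) := by
      rw [ht]; push_cast; ring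
    obtain ⟨m, hm, hm1, hm0⟩ := exists_value hexp (by positivity) (by norm_num)
    obtain ⟨T, hT1, hT2, -⟩ := Cfsg.Agent.H129.CycT.exact_tD4_12 hq hF hm
    have hx := exists_of_cyclic (m := m) (g := 1) hT1 (by rw [hT2, one_mul])
    refine h.false_of_torus hp hp5 e (d := 1) le_rfl one_pos hx ?_ ?_ (by omega)
    · refine not_dvd_of_eq hr hrq (x := -(q : ℤ) + (q : ℤ) ^ 3) ?_
      rw [hm]; ring
    · refine not_two_dvd_of (q := q) (fun x => 1 - x ^ 2 + x ^ 4) (by decide) ?_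
      have := congrArg (Int.cast : ℤ → ZMod 2) hm
      push_cast at this
      exact this

/-- `²E₆(q)` -/
theorem no_2E6 (hp : p.Prime) (hp5 : 5 ≤ p) (F : Type*) [Field F] [Fintype F] [CharP F r] {q : ℕ} (hq : IsPrimePow q)
    (hF : Fintype.card F = q ^ 2) (e : K ≃* ↥(twistedE6 F q)) (h : Reg p r 78 K) : False := by
  obtain ⟨hr, hrq⟩ := char_dvd_q (r := r) hF
  have hq2 : 2 ≤ q := hq.two_le
  rcases Nat.lt_or_ge q 3 with hq3 | hq3
  · have hq' : q = 2 := by omega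
    subst hq'
    have hr2 : r = 2 := (Nat.prime_dvd_prime_iff_eq hr Nat.prime_two).1 hrq
    have hc := Cfsg.Agent.S1066.result hq hF
    rw [← Nat.card_congr e.toEquiv, show Nat.gcd 3 (2 + 1) = 3 from rfl] at hc
    have hc' : Nat.card K = 2 ^ 36 * 33 * 63 * 255 * 513 * 4095 :=
      Nat.eq_of_mul_eq_mul_left (by norm_num : 0 < 3) (hc.trans (by norm_num))
    refine h.false_of_chk hp hp5 hr (M := 157) (by norm_num) (by norm_num) hc' (L := [19, 17]) ?_ (by decide +kernel)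
    intro s hs
    simp only [List.mem_cons, List.not_mem_nil, or_false] at hs
    subst hr2
    rcases hs with rfl | rfl
    · exact ⟨by norm_num, by norm_num, by norm_num, by norm_num⟩
    · exact ⟨by norm_num, by norm_num, by norm_num, by norm_num⟩
  · obtain ⟨t, ht⟩ : ∃ t, q = 3 + t := ⟨q - 3, by omega⟩
    have hexp : 1 - (q : ℤ) ^ 3 + (q : ℤ) ^ 6 =
        (703 : ℕ) + (t : ℤ) * (1431 + (t : ℤ) * (1206 + (t : ℤ) * (539 + (t : ℤ) * (135 + (t : ℤ) * (18 +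
        (t : ℤ) * 1))))) := by
      rw [ht]; push_cast; ring
    obtain ⟨m, hm, hm1, hm0⟩ := exists_value hexp (by positivity) (by norm_num)
    obtain ⟨T, hT1, -, hT2, -⟩ := Cfsg.Agent.H129.CycT.torus_tE6_18 hq hF hm
    have hx := exists_of_cyclic (m := m) hT1 hT2
    refine h.false_of_torus hp hp5 e (d := 3) (Nat.gcd_le_left _ (by norm_num)) (Nat.gcd_pos_of_pos_left _ (by norm_num))
      hx ?_ ?_ (by omega)
    · refine not_dvd_of_eq hr hrq (x := -(q : ℤ) ^ 2 + (q : ℤ) ^ 5) ?_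
      rw [hm]; ring
    · refine not_two_dvd_of (q := q) (fun x => 1 - x ^ 3 + x ^ 6) (by decide) ?_
      have := congrArg (Int.cast : ℤ → ZMod 2) hm
      push_cast at this
      exact this

/-- **`²E₆(q)`, `³D₄(q)`**, from the arithmetic conditions. -/
theorem no_tw {A : Subgroup K} [IsSimpleGroup K] (hp : p.Prime) (hp5 : 5 ≤ p) (hrp : r ≠ p) (hK : LieHyp r K)
    (h : IsTwistedE6D4Char r K) (hA : Pr p A) : False := by
  obtain ⟨F, _, _, _, q, hq, h⟩ := h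
  obtain ⟨hr, -⟩ := char_dvd_card F r
  rcases h with ⟨hF, ⟨e⟩⟩ | ⟨hF, ⟨e⟩⟩
  · exact no_2E6 hp hp5 F hq hF e (reg_sub hp hp5 hr hrp hK hA (card_Idx chevE6) e)
  · exact no_3D4 hp hp5 F hq hF e (reg_sub hp hp5 hr hrp hK hA (card_Idx chevD4) e)

end Cfsg.Agent.H733.Tor
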